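import Groth.Prelude.Def_FSch5
import Groth.Agent.NilAffine.Main

/-!
# Affine opens of a formal system and its structure sheaf

The levels over an affine open of `X 0` are affine, the transition maps on their sections are surjective,
hence so are the projections from `O_𝔛`.
-/

set_option autoImplicit false
set_option linter.style.haveILetI false
set_option backward.isDefEq.respectTransparency false

universe u

open CategoryTheory CategoryTheory.Limits AlgebraicGeometry TopologicalSpace Opposite

namespace Groth.Agent.FSchAff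

/-- projections of a limit of a sequence with surjective transition maps are surjective -/
theorem surjective_π {F : ℕᵒᵖ ⥤ Type u} {c : Cone F} (hc : IsLimit c)
    (hF : ∀ n, Function.Surjective (F.map (homOfLE (Nat.le_add_right n 1)).op)) (i : ℕ) :
    Function.Surjective (c.π.app (op i)) := by
  intro a
  have hs : ∀ k (x : F.obj (op (i + k))), ∃ y : F.obj (op (i + k + 1)),
      F.map (homOfLE (Nat.le_add_right (i + k) 1)).op y = x := fun k x => hF (i + k) x
  choose lift hlift using hs
  let t : ∀ k, F.obj (op (i + k)) := fun k => Nat.rec (motive := fun k => F.obj (op (i + k))) a lift k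
  have ht : ∀ k k' (h : k ≤ k'), F.map (homOfLE (Nat.add_le_add_left h i)).op (t k') = t k := by
    intro k k' h
    induction k', h using Nat.le_induction with
    | base => exact congrArg (fun f => f (t k)) (F.map_id (op (i + k)))
    | succ m hm ih =>
      rw [← ih, show t m = F.map (homOfLE (Nat.le_add_right (i + m) 1)).op (t (m + 1)) from (hlift m (t m)).symm,
        ← ConcreteCategory.comp_apply, ← F.map_comp]
      rfl
  let s : ∀ j : ℕᵒᵖ, F.obj j := fun j => F.map (homOfLE (Nat.le_add_left j.unop i)).op (t j.unop)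
  have hsec : s ∈ F.sections := by
    intro j j' g
    have hle : j'.unop ≤ j.unop := leOfHom g.unop
    change F.map g (F.map (homOfLE (Nat.le_add_left j.unop i)).op (t j.unop)) =
      F.map (homOfLE (Nat.le_add_left j'.unop i)).op (t j'.unop)
    rw [← ht j'.unop j.unop hle, ← ConcreteCategory.comp_apply, ← ConcreteCategory.comp_apply, ← F.map_comp,
      ← F.map_comp]
    rfl
  refine ⟨(Types.isLimitEquivSections hc).symm ⟨s, hsec⟩, ?_⟩
  have h1 := (Types.isLimitEquivSections_symm_apply hc ⟨s, hsec⟩ (op i))
  refine h1.trans ?_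
  have h0 := ht 0 i (Nat.zero_le i)
  exact h0

variable (𝔛 : FSch.Sys.{u}) (h : 𝔛.IsFormal)

/-- the levels over an affine open are affine -/
theorem isAffineOpen_lvU {U : (𝔛.X 0).Opens} (hU : IsAffineOpen U) (n : ℕ) : IsAffineOpen (𝔛.lvU h n U) := by
  haveI := 𝔛.toX_isClosedImmersion h n
  have hpre : (𝔛.toX n) ⁻¹ᵁ (𝔛.lvU h n U) = U := by
    ext x
    change (𝔛.gInv h n) ((𝔛.toX n).base x) ∈ U ↔ x ∈ U
    rw [← ConcreteCategory.comp_apply, FSch.Sys.toX_base_gInv]
    rfl
  haveI : IsAffine ((𝔛.toX n) ⁻¹ᵁ (𝔛.lvU h n U)).toScheme := by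
    rw [hpre]; exact hU
  haveI : IsClosedImmersion ((𝔛.toX n) ∣_ (𝔛.lvU h n U)) :=
    IsZariskiLocalAtTarget.restrict (P := @IsClosedImmersion) inferInstance _
  haveI : Surjective (𝔛.toX n) := ⟨𝔛.toX_surjective h n⟩
  haveI : Surjective ((𝔛.toX n) ∣_ (𝔛.lvU h n U)) :=
    IsZariskiLocalAtTarget.restrict (P := @Surjective) inferInstance _
  exact NilAffine.isAffine_of_surjective ((𝔛.toX n) ∣_ (𝔛.lvU h n U))

/-- the transition maps on sections over an affine open are surjective -/
theorem levelMap_app_surjective {U : (𝔛.X 0).Opens} (hU : IsAffineOpen U) (n : ℕ) :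
    Function.Surjective ((𝔛.levelMap h n).hom.app (op U)) := by
  rw [FSch.Sys.levelMap_app]
  have haff := isAffineOpen_lvU 𝔛 h hU (n + 1)
  haveI := (h n).1
  rw [Scheme.Hom.appLE]
  refine Function.Surjective.comp (g := ((𝔛.X n).presheaf.map (homOfLE (𝔛.lvU_le h n U)).op).hom) ?_
    ((𝔛.ι n).app_surjective _ haff)
  intro y
  refine ⟨(𝔛.X n).presheaf.map (eqToHom (𝔛.lvU_succ h n U)).op y, ?_⟩
  rw [← ConcreteCategory.comp_apply, ← Functor.map_comp]
  exact congrArg (fun f => f y) ((𝔛.X n).presheaf.map_id _)

/-- the projections from the structure sheaf are surjective on affine opens -/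
theorem oshProj_app_surjective {U : (𝔛.X 0).Opens} (hU : IsAffineOpen U) (n : ℕ) :
    Function.Surjective ((𝔛.OshProj h n).hom.app (op U)) := by
  let G : Sheaf (Opens.grothendieckTopology (𝔛.X 0)) CommRingCat.{u} ⥤ Type u :=
    sheafToPresheaf _ _ ⋙ (CategoryTheory.evaluation _ _).obj (op U) ⋙ forget CommRingCat.{u}
  refine surjective_π (F := 𝔛.levelRing h ⋙ G) (isLimitOfPreserves G (limit.isLimit (𝔛.levelRing h))) ?_ n
  intro m
  change Function.Surjective ((((𝔛.levelRing h).map (homOfLE (Nat.le_add_right m 1)).op).hom.app (op U)))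
  rw [FSch.Sys.levelRing_map_succ]
  exact levelMap_app_surjective 𝔛 h hU m

end Groth.Agent.FSchAff
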